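import Cfsg.Agent.Lib.Forms.Classify
import Cfsg.Agent.Lib.FormsDisc.Basic
import Cfsg.Agent.Lib.OrthCrit.Plus

/-!
Tensor products of bilinear forms: Gram matrices, Lagrangians, and the discriminant criterion for plus type.
-/

set_option autoImplicit false

namespace CfsgLib.TensorForms

open Module Matrix TensorProduct

variable {F U W : Type*} [Field F] [AddCommGroup U] [Module F U] [AddCommGroup W] [Module F W]

theorem tmul_apply (B₁ : LinearMap.BilinForm F U) (B₂ : LinearMap.BilinForm F W) (u u' : U) (w w' : W) :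
    (B₁.tmul B₂) (u ⊗ₜ w) (u' ⊗ₜ w') = B₁ u u' * B₂ w w' := by
  rw [LinearMap.BilinForm.tensorDistrib_tmul, smul_eq_mul, mul_comm]

/-- Two alternating forms give a symmetric form. -/
theorem isSymm_of_alt (B₁ : LinearMap.BilinForm F U) (B₂ : LinearMap.BilinForm F W) (h₁ : B₁.IsAlt)
    (h₂ : B₂.IsAlt) : (B₁.tmul B₂).IsSymm := by
  have key : ∀ x y, (B₁.tmul B₂) x y = (B₁.tmul B₂) y x := by
    intro x y
    induction x using TensorProduct.induction_on with
    | zero => rw [map_zero, LinearMap.zero_apply, map_zero]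
    | add a b ha hb => simp only [map_add, LinearMap.add_apply, ha, hb]
    | tmul u w =>
      induction y using TensorProduct.induction_on with
      | zero => rw [map_zero, map_zero, LinearMap.zero_apply]
      | add a b ha hb => simp only [map_add, LinearMap.add_apply, ha, hb]
      | tmul u' w' =>
        rw [tmul_apply, tmul_apply, ← LinearMap.IsAlt.neg h₁ u u', ← LinearMap.IsAlt.neg h₂ w w']
        ring
  exact ⟨key⟩

/-- Two symmetric forms give a symmetric form. -/
theorem isSymm_of_symm (B₁ : LinearMap.BilinForm F U) (B₂ : LinearMap.BilinForm F W) (h₁ : B₁.IsSymm)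
    (h₂ : B₂.IsSymm) : LinearMap.BilinForm.IsSymm (B₁.tmul B₂) := by
  have key : ∀ x y, (B₁.tmul B₂) x y = (B₁.tmul B₂) y x := by
    intro x y
    induction x using TensorProduct.induction_on with
    | zero => rw [map_zero, LinearMap.zero_apply, map_zero]
    | add a b ha hb => simp only [map_add, LinearMap.add_apply, ha, hb]
    | tmul u w =>
      induction y using TensorProduct.induction_on with
      | zero => rw [map_zero, map_zero, LinearMap.zero_apply]
      | add a b ha hb => simp only [map_add, LinearMap.add_apply, ha, hb]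
      | tmul u' w' => rw [tmul_apply, tmul_apply, h₁.eq u u', h₂.eq w w']
  exact ⟨key⟩

/-- The Gram matrix of a tensor product is the Kronecker product. -/
theorem toMatrix_tmul {ι κ : Type*} [Fintype ι] [DecidableEq ι] [Fintype κ] [DecidableEq κ]
    (B₁ : LinearMap.BilinForm F U) (B₂ : LinearMap.BilinForm F W) (b : Basis ι F U) (c : Basis κ F W) :
    LinearMap.BilinForm.toMatrix (b.tensorProduct c) (B₁.tmul B₂) =
      kroneckerMap (· * ·) (LinearMap.BilinForm.toMatrix b B₁) (LinearMap.BilinForm.toMatrix c B₂) := by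
  ext ⟨i, j⟩ ⟨i', j'⟩
  simp [LinearMap.BilinForm.toMatrix_apply, Basis.tensorProduct_apply, tmul_apply, kroneckerMap_apply, mul_comm]

theorem det_tmul {ι κ : Type*} [Fintype ι] [DecidableEq ι] [Fintype κ] [DecidableEq κ]
    (B₁ : LinearMap.BilinForm F U) (B₂ : LinearMap.BilinForm F W) (b : Basis ι F U) (c : Basis κ F W) :
    (LinearMap.BilinForm.toMatrix (b.tensorProduct c) (B₁.tmul B₂)).det =
      (LinearMap.BilinForm.toMatrix b B₁).det ^ Fintype.card κ *
        (LinearMap.BilinForm.toMatrix c B₂).det ^ Fintype.card ι := by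
  rw [toMatrix_tmul, det_kronecker]

theorem nondegenerate_tmul [FiniteDimensional F U] [FiniteDimensional F W]
    (B₁ : LinearMap.BilinForm F U) (B₂ : LinearMap.BilinForm F W) (h₁ : B₁.Nondegenerate)
    (h₂ : B₂.Nondegenerate) : (B₁.tmul B₂).Nondegenerate := by
  let b := Module.finBasis F U
  let c := Module.finBasis F W
  refine (LinearMap.BilinForm.nondegenerate_iff_det_ne_zero (b.tensorProduct c)).mpr ?_
  rw [det_tmul]
  exact mul_ne_zero (pow_ne_zero _ ((LinearMap.BilinForm.nondegenerate_iff_det_ne_zero b).mp h₁))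
    (pow_ne_zero _ ((LinearMap.BilinForm.nondegenerate_iff_det_ne_zero c).mp h₂))

/-- A non-degenerate alternating form has a Lagrangian. -/
theorem exists_lagrangian [FiniteDimensional F U] (B : LinearMap.BilinForm F U) (hB : B.Nondegenerate)
    (hA : B.IsAlt) {k : ℕ} (hU : finrank F U = 2 * k) :
    ∃ X : Submodule F U, finrank F X = k ∧ ∀ x ∈ X, ∀ y ∈ X, B x y = 0 := by
  obtain ⟨m, r, b, hd, hspan, h1, h2, h3, hrad⟩ :=
    CfsgLib.Forms.exists_symplectic_family B hA (2 * k) ⊤ (by rw [finrank_top, hU])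
  have hli : LinearIndependent F b := by
    refine linearIndependent_of_top_le_span_of_card_eq_finrank (by rw [hspan]) ?_
    simp only [Fintype.card_sum, Fintype.card_fin]
    omega
  have hr : r = 0 := by
    by_contra hr
    exact hli.ne_zero (.inr ⟨0, Nat.pos_of_ne_zero hr⟩) (hB.1 _ fun v => hrad _ v trivial)
  subst hr
  refine ⟨Submodule.span F (Set.range fun i : Fin m => b (.inl (.inl i))), ?_, fun x hx y hy => ?_⟩
  · rw [show (fun i : Fin m => b (.inl (.inl i))) = b ∘ Sum.inl ∘ Sum.inl from rfl,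
      finrank_span_eq_card (hli.comp _ (Sum.inl_injective.comp Sum.inl_injective)), Fintype.card_fin]
    omega
  · induction hx, hy using Submodule.span_induction₂ with
    | mem_mem x y hx hy =>
      obtain ⟨i, rfl⟩ := hx
      obtain ⟨j, rfl⟩ := hy
      exact h2 i j
    | zero_left y hy => simp
    | zero_right x hx => simp
    | add_left x y z _ _ _ e₁ e₂ => simp [e₁, e₂]
    | add_right x y z _ _ _ e₁ e₂ => simp [e₁, e₂]
    | smul_left c x y _ _ e => simp [e]
    | smul_right c x y _ _ e => simp [e]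

/-- A totally isotropic subspace tensored with the other space. -/
theorem exists_isotropic_tmul [FiniteDimensional F U] [FiniteDimensional F W]
    (B₁ : LinearMap.BilinForm F U) (B₂ : LinearMap.BilinForm F W) (X : Submodule F U)
    (hX : ∀ x ∈ X, ∀ y ∈ X, B₁ x y = 0) :
    ∃ Y : Submodule F (U ⊗[F] W), finrank F Y = finrank F X * finrank F W ∧
      ∀ x ∈ Y, ∀ y ∈ Y, (B₁.tmul B₂) x y = 0 := by
  refine ⟨LinearMap.range (X.subtype.rTensor W), ?_, ?_⟩
  · rw [LinearMap.finrank_range_of_inj
      (Module.Flat.rTensor_preserves_injective_linearMap X.subtype X.injective_subtype),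
      Module.finrank_tensorProduct]
  · rintro _ ⟨x, rfl⟩ _ ⟨y, rfl⟩
    induction x using TensorProduct.induction_on with
    | zero => rw [map_zero, map_zero, LinearMap.zero_apply]
    | add a b ha hb => simp only [map_add, LinearMap.add_apply, ha, hb, add_zero]
    | tmul u w =>
      induction y using TensorProduct.induction_on with
      | zero => rw [map_zero, map_zero]
      | add a b ha hb => simp only [map_add, ha, hb, add_zero]
      | tmul u' w' =>
        rw [LinearMap.rTensor_tmul, LinearMap.rTensor_tmul, tmul_apply, Submodule.subtype_apply,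
          Submodule.subtype_apply, hX u u.2 u' u'.2, zero_mul]

theorem det_swap_blocks (k : ℕ) :
    (fromBlocks 0 1 1 0 : Matrix (Fin k ⊕ Fin k) (Fin k ⊕ Fin k) F).det = (-1) ^ k := by
  have h : (fromBlocks 0 1 1 0 : Matrix (Fin k ⊕ Fin k) (Fin k ⊕ Fin k) F) =
      fromBlocks 1 1 0 1 * fromBlocks 1 0 (-1) 1 * fromBlocks 1 1 0 1 * fromBlocks (-1) 0 0 1 := by
    simp [fromBlocks_multiply]
  rw [h, det_mul, det_mul, det_mul, det_fromBlocks_zero₂₁, det_fromBlocks_zero₁₂,
    det_fromBlocks_zero₂₁, det_neg]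
  simp

/-- Plus type forces the discriminant `(-1)^k`. -/
theorem isSquare_of_isotropic [FiniteDimensional F U] (B : LinearMap.BilinForm F U)
    (hS : B.IsSymm) {k : ℕ} (hU : finrank F U = 2 * k) (X : Submodule F U) (hXk : finrank F X = k)
    (hX : ∀ x ∈ X, ∀ y ∈ X, B x y = 0) {ι : Type*} [Fintype ι] [DecidableEq ι] (b : Basis ι F U) :
    IsSquare ((-1 : F) ^ k * (LinearMap.BilinForm.toMatrix b B).det) := by
  obtain ⟨C, hC⟩ := exists_isCompl X
  have hCk : finrank F C = k := by
    have := Submodule.finrank_add_eq_of_isCompl hC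
    omega
  let bX : Basis (Fin k) F X := Module.finBasisOfFinrankEq F X hXk
  let bC : Basis (Fin k) F C := Module.finBasisOfFinrankEq F C hCk
  let c : Basis (Fin k ⊕ Fin k) F U := (bX.prod bC).map (Submodule.prodEquivOfIsCompl X C hC)
  have hcl : ∀ i, c (.inl i) = (bX i : U) := fun i => by simp [c]
  have hcr : ∀ i, c (.inr i) = (bC i : U) := fun i => by simp [c]
  set A : Matrix (Fin k) (Fin k) F := Matrix.of fun i j => B (bX i : U) (bC j : U)
  set D : Matrix (Fin k) (Fin k) F := Matrix.of fun i j => B (bC i : U) (bC j : U)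
  have hgram : (Matrix.of fun i j => B (c i) (c j)) = fromBlocks 0 A Aᵀ D := by
    ext (i | i) (j | j) <;> simp only [Matrix.of_apply, hcl, hcr, fromBlocks_apply₁₁,
      fromBlocks_apply₁₂, fromBlocks_apply₂₁, fromBlocks_apply₂₂, Matrix.zero_apply, transpose_apply, A, D]
    · exact hX _ (bX i).2 _ (bX j).2
    · exact hS.eq _ _
  have hdet : (fromBlocks 0 A Aᵀ D).det = (-1 : F) ^ k * A.det ^ 2 := by
    have h : fromBlocks 0 A Aᵀ D = fromBlocks A 0 D Aᵀ *
        (fromBlocks 0 1 1 0 : Matrix (Fin k ⊕ Fin k) (Fin k ⊕ Fin k) F) := by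
      simp [fromBlocks_multiply]
    rw [h, det_mul, det_fromBlocks_zero₁₂, det_transpose, det_swap_blocks]
    ring
  obtain ⟨d, hd, he⟩ := CfsgLib.FormsDisc.gram_det_basis B b c
  have hb : (Matrix.of fun i j => B (b i) (b j)) = LinearMap.BilinForm.toMatrix b B := by
    ext i j; simp [LinearMap.BilinForm.toMatrix_apply]
  rw [hb, hgram, hdet] at he
  refine ⟨A.det * d * (-1) ^ k, ?_⟩
  rw [he]
  ring

/-- Discriminant `(-1)^k` forces plus type over a finite field of odd characteristic. -/
theorem exists_isotropic_of_isSquare [Fintype F] [FiniteDimensional F U] (h2 : (2 : F) ≠ 0)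
    (B : LinearMap.BilinForm F U) (hB : B.Nondegenerate) (hS : B.IsSymm) {k : ℕ}
    (hU : finrank F U = 2 * k) {ι : Type*} [Fintype ι] [DecidableEq ι] (b : Basis ι F U)
    (hsq : IsSquare ((-1 : F) ^ k * (LinearMap.BilinForm.toMatrix b B).det)) :
    ∃ X : Submodule F U, finrank F X = k ∧ ∀ x ∈ X, ∀ y ∈ X, B x y = 0 := by
  classical
  let c : Basis (Fin (2 * k)) F U := Module.finBasisOfFinrankEq F U hU
  let g : (Fin (2 * k) → F) ≃ₗ[F] U := c.equivFun.symm
  let e : (Fin k ⊕ Fin k) ≃ Fin (2 * k) := finSumFinEquiv.trans (finCongr (two_mul k).symm)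
  let r : (Fin (2 * k) → F) ≃ₗ[F] (Fin k ⊕ Fin k → F) := LinearEquiv.funCongrLeft F F e
  let Q₁ : QuadraticForm F (Fin (2 * k) → F) := B.toQuadraticMap.comp g.toLinearMap
  let Q₂ : QuadraticForm F (Fin (2 * k) → F) := (CfsgLib.OrthCrit.plusForm k F).comp r.toLinearMap
  have hp₁ : ∀ x y, QuadraticMap.polar (⇑Q₁) x y = 2 * B (g x) (g y) := fun x y => by
    simp only [QuadraticMap.polar, Q₁, QuadraticMap.comp_apply, LinearMap.BilinMap.toQuadraticMap_apply,
      LinearEquiv.coe_coe, map_add, LinearMap.add_apply]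
    linear_combination hS.eq (g y) (g x)
  have hp₂ : ∀ x y, QuadraticMap.polar (⇑Q₂) x y =
      QuadraticMap.polar (⇑(CfsgLib.OrthCrit.plusForm k F)) (r x) (r y) := fun x y => by
    simp [QuadraticMap.polar, Q₂]
  have hgs : ∀ i, g (Pi.single i 1) = c i := fun i => by
    simp only [g, Basis.equivFun_symm_apply]
    simp [Pi.single_apply]
  have hG₁ : (Matrix.of fun i j => QuadraticMap.polar (⇑Q₁) (Pi.single i 1) (Pi.single j 1)) =
      (2 : F) • Matrix.of fun i j => B (c i) (c j) := by
    ext i j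
    rw [Matrix.of_apply, hp₁, hgs, hgs]
    rfl
  have hrs : ∀ i : Fin (2 * k), r (Pi.single i 1) = Pi.single (e.symm i) 1 := fun i => by
    funext s
    show (Pi.single i 1 : Fin (2 * k) → F) (e s) = _
    simp [Pi.single_apply, Equiv.eq_symm_apply]
  have hG₂ : (Matrix.of fun i j => QuadraticMap.polar (⇑Q₂) (Pi.single i 1) (Pi.single j 1)) =
      (fromBlocks 0 1 1 0 : Matrix (Fin k ⊕ Fin k) (Fin k ⊕ Fin k) F).submatrix e.symm e.symm := by
    ext i j
    rw [Matrix.of_apply, hp₂, hrs, hrs, CfsgLib.OrthCrit.polar_plusForm, submatrix_apply]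
    rcases e.symm i with a | a <;> rcases e.symm j with a' | a' <;>
      simp [Pi.single_apply, Matrix.one_apply, eq_comm]
  have hn₁ : (QuadraticMap.polarBilin Q₁).Nondegenerate := by
    refine (LinearMap.IsRefl.nondegenerate_iff_separatingLeft (fun x y h => ?_)).mpr fun x hx => ?_
    · rw [QuadraticMap.polarBilin_apply_apply, QuadraticMap.polar_comm]; exact h
    · refine g.map_eq_zero_iff.mp (hB.1 _ fun y => ?_)
      have h := hx (g.symm y)
      rw [QuadraticMap.polarBilin_apply_apply, hp₁, LinearEquiv.apply_symm_apply] at h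
      exact (mul_eq_zero.mp h).resolve_left h2
  have hn₂ : (QuadraticMap.polarBilin Q₂).Nondegenerate := by
    refine (LinearMap.IsRefl.nondegenerate_iff_separatingLeft (fun x y h => ?_)).mpr fun x hx => ?_
    · rw [QuadraticMap.polarBilin_apply_apply, QuadraticMap.polar_comm]; exact h
    · refine r.map_eq_zero_iff.mp (CfsgLib.OrthCrit.ndPolar_plusForm k _ fun y => ?_)
      have h := hx (r.symm y)
      rwa [QuadraticMap.polarBilin_apply_apply, hp₂, LinearEquiv.apply_symm_apply] at h
  obtain ⟨d, hd, he⟩ := CfsgLib.FormsDisc.gram_det_basis B b c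
  have hb : (Matrix.of fun i j => B (b i) (b j)) = LinearMap.BilinForm.toMatrix b B := by
    ext i j; simp [LinearMap.BilinForm.toMatrix_apply]
  rw [hb] at he
  obtain ⟨φ⟩ := CfsgLib.FormsDisc.equivalent_of_disc h2 Q₁ Q₂ hn₁ hn₂ (by
    rw [hG₁, hG₂, det_submatrix_equiv_self, det_swap_blocks, det_smul, Fintype.card_fin]
    obtain ⟨s, hs⟩ := hsq
    rw [he] at hs
    refine ⟨(2 : F) ^ k * (s / d), ?_⟩
    field_simp
    linear_combination (2 : F) ^ (2 * k) * hs)
  let ψ : (Fin k ⊕ Fin k → F) ≃ₗ[F] U := (r.symm.trans φ.toLinearEquiv.symm).trans g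
  refine ⟨(CfsgLib.OrthCrit.halfSpace F k).map ψ.toLinearMap, ?_, ?_⟩
  · rw [LinearEquiv.finrank_map_eq, CfsgLib.OrthCrit.finrank_halfSpace]
  · have hzero : ∀ z ∈ (CfsgLib.OrthCrit.halfSpace F k).map ψ.toLinearMap, B z z = 0 := by
      rintro _ ⟨x, hx, rfl⟩
      have h : Q₁ (φ.toLinearEquiv.symm (r.symm x)) = Q₂ (r.symm x) := by
        have h' := φ.map_app (φ.toLinearEquiv.symm (r.symm x))
        rwa [show φ (φ.toLinearEquiv.symm (r.symm x)) = r.symm x from
          φ.toLinearEquiv.apply_symm_apply _, eq_comm] at h'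
      simp only [Q₁, Q₂, QuadraticMap.comp_apply, LinearMap.BilinMap.toQuadraticMap_apply,
        LinearEquiv.coe_coe, LinearEquiv.apply_symm_apply] at h
      rw [CfsgLib.OrthCrit.halfSpace_singular x hx] at h
      exact h
    intro x hx y hy
    have h := hzero (x + y) (Submodule.add_mem _ hx hy)
    simp only [map_add, LinearMap.add_apply, hzero x hx, hzero y hy, zero_add, add_zero,
      show B y x = B x y from hS.eq y x] at h
    exact (mul_eq_zero.mp (by linear_combination h : (2 : F) * B x y = 0)).resolve_left h2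

end CfsgLib.TensorForms
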